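import Cfsg.Agent.H367.PU.Lift
import Cfsg.Agent.H394.SqPsu3
import Cfsg.Agent.H394.SqPsl2
import Cfsg.Agent.H436.TTPsl2
import Cfsg.Agent.S0283

/-!
# S5258, PU-U3: Sylow subgroups of `PSL₂(q)` and `PSU₃(q)` in the defining characteristic (helper367)
-/

set_option autoImplicit false
set_option linter.unusedSectionVars false

namespace Cfsg.Agent.H367.PU

open Subgroup Cfsg Cfsg.Agent.H666.TI

universe u

/-! ### numbers -/

/-- the order of a Sylow subgroup -/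
theorem card_syl {T : Type*} [Group T] [Finite T] {p : ℕ} [hp : Fact p.Prime] (P : Sylow p T) {k : ℕ}
    (h1 : p ^ k ∣ Nat.card T) (h2 : ¬ p ^ (k + 1) ∣ Nat.card T) : Nat.card P = p ^ k := by
  rw [P.card_eq_multiplicity]
  congr 1
  have h0 : Nat.card T ≠ 0 := Nat.card_pos.ne'
  apply le_antisymm
  · by_contra h3
    apply h2
    rw [hp.out.pow_dvd_iff_le_factorization h0]
    omega
  · rwa [← hp.out.pow_dvd_iff_le_factorization h0]

/-- the order of a Sylow subgroup -/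
theorem card_syl' {T : Type*} [Group T] [Finite T] {p : ℕ} [hp : Fact p.Prime] (P : Sylow p T) {k g m : ℕ}
    (h : g * Nat.card T = p ^ k * m) (hg : ¬ p ∣ g) (hm : ¬ p ∣ m) : Nat.card P = p ^ k := by
  refine card_syl P ?_ ?_
  · have h1 : p ^ k ∣ g * Nat.card T := h ▸ dvd_mul_right _ _
    exact (Nat.Coprime.pow_left k ((Nat.Prime.coprime_iff_not_dvd hp.out).2 hg)).dvd_of_dvd_mul_left h1
  · intro h1
    have h2 : p ^ (k + 1) ∣ p ^ k * m := h ▸ h1.mul_left g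
    rw [pow_succ] at h2
    exact hm (Nat.dvd_of_mul_dvd_mul_left (pow_pos hp.out.pos k) h2)

/-! ### `PSL₂(q)` -/

section psl

variable {F : Type*} [Field F] [Fintype F] {p : ℕ} [hp : Fact p.Prime] [CharP F p]

theorem card_sylow_psl2 : Nat.card (Sylow p (Matrix.ProjectiveSpecialLinearGroup (Fin 2) F)) = Fintype.card F + 1 := by
  obtain ⟨P⟩ : Nonempty (Sylow p (Matrix.ProjectiveSpecialLinearGroup (Fin 2) F)) := inferInstance
  rw [P.card_eq_index_normalizer]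
  exact Cfsg.Agent.H436.TT.index_normalizer p P

theorem comm_psl2 (P : Sylow p (Matrix.ProjectiveSpecialLinearGroup (Fin 2) F)) :
    ∀ x ∈ P, ∀ y ∈ P, x * y = y * x := by
  classical
  set π := QuotientGroup.mk' (Subgroup.center (Matrix.SpecialLinearGroup (Fin 2) F)) with hπ
  have hsurj : Function.Surjective π := QuotientGroup.mk'_surjective _
  set P0 := (Cfsg.Agent.LieClassical.SLTwoUnipotent.upperUnipSylowSL F p).mapSurjective hsurj with hP0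
  have h0 : ∀ x ∈ P0, ∀ y ∈ P0, x * y = y * x := by
    rintro _ ⟨x, hx, rfl⟩ _ ⟨y, hy, rfl⟩
    have hx' : x ∈ Cfsg.Agent.LieClassical.SLTwoUnipotent.upperUnipSL F := hx
    have hy' : y ∈ Cfsg.Agent.LieClassical.SLTwoUnipotent.upperUnipSL F := hy
    obtain ⟨a, rfl⟩ := Cfsg.Agent.LieClassical.SLTwoUnipotent.mem_upperUnipSL_iff_exists.1 hx'
    obtain ⟨b, rfl⟩ := Cfsg.Agent.LieClassical.SLTwoUnipotent.mem_upperUnipSL_iff_exists.1 hy'
    rw [← map_mul, ← map_mul, ← Cfsg.Agent.LieClassical.SLTwoUnipotent.u_add,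
      ← Cfsg.Agent.LieClassical.SLTwoUnipotent.u_add, add_comm]
  obtain ⟨g, rfl⟩ := MulAction.exists_smul_eq (Matrix.ProjectiveSpecialLinearGroup (Fin 2) F) P0 P
  rintro _ ⟨x, hx, rfl⟩ _ ⟨y, hy, rfl⟩
  change g * x * g⁻¹ * (g * y * g⁻¹) = g * y * g⁻¹ * (g * x * g⁻¹)
  have h1 := h0 x hx y hy
  calc g * x * g⁻¹ * (g * y * g⁻¹) = g * (x * y) * g⁻¹ := by group
    _ = g * (y * x) * g⁻¹ := by rw [h1]
    _ = _ := by group

end psl

/-! ### `PSU₃(q)` -/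

section psu

variable {F : Type u} [Field F] [Fintype F] {p m : ℕ} [hp : Fact p.Prime]

theorem charP_of_card {k : ℕ} (hF : Fintype.card F = p ^ k) : CharP F p := by
  obtain ⟨r, hr⟩ := CharP.exists F
  have hr' : r.Prime := CharP.char_is_prime F r
  have := Fact.mk hr'
  obtain ⟨n, -, hn⟩ := FiniteField.card F r
  have h1 : r ∣ p ^ k := by
    rw [← hF, hn]
    exact dvd_pow_self r n.2.ne'
  have h2 : r = p := (Nat.prime_dvd_prime_iff_eq hr' hp.out).1 (hr'.dvd_of_dvd_pow h1)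
  exact h2 ▸ hr

theorem simple_psu3 (hF : Fintype.card F = (p ^ m) ^ 2) (h3 : 3 ≤ p ^ m) : IsSimpleGroup (PSU 3 F (p ^ m)) :=
  Cfsg.Agent.S0283.result hF 3 le_rfl (fun h => by omega)

theorem num_psu3 {q : ℕ} (hq : 3 ≤ q) : ∃ h, (q ^ 2 - 1) = Nat.gcd 3 (q + 1) * h ∧ h < q ^ 3 := by
  have h1 : Nat.gcd 3 (q + 1) ∣ q ^ 2 - 1 := by
    refine (Nat.gcd_dvd_right 3 (q + 1)).trans ?_
    have : q ^ 2 - 1 = (q + 1) * (q - 1) := by
      have := Nat.sq_sub_sq q 1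
      rwa [one_pow] at this
    rw [this]
    exact dvd_mul_right _ _
  obtain ⟨h, hh⟩ := h1
  refine ⟨h, hh, ?_⟩
  have h2 : 0 < Nat.gcd 3 (q + 1) := Nat.gcd_pos_of_pos_left _ (by norm_num)
  have h3 : h ≤ q ^ 2 - 1 := by
    rw [hh]
    exact Nat.le_mul_of_pos_left h h2
  have h4 : q ^ 2 * 1 < q ^ 2 * q := Nat.mul_lt_mul_of_pos_left (by omega) (by positivity)
  have h5 : q ^ 3 = q ^ 2 * q := pow_succ q 2
  omega

theorem card_T (hF : Fintype.card F = (p ^ m) ^ 2) (h3 : 3 ≤ p ^ m) : ∃ h, h < (p ^ m) ^ 3 ∧ ¬ p ∣ h ∧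
    Nat.card (PSU 3 F (p ^ m)) = (p ^ m) ^ 3 * (((p ^ m) ^ 3 + 1) * h) := by
  obtain ⟨h, h1, h2⟩ := num_psu3 h3
  have hm : m ≠ 0 := by
    rintro rfl
    rw [pow_zero] at h3
    omega
  have h0 : 0 < Nat.gcd 3 (p ^ m + 1) := Nat.gcd_pos_of_pos_left _ (by norm_num)
  refine ⟨h, h2, ?_, ?_⟩
  · intro h4
    have h5 : p ∣ (p ^ m) ^ 2 - 1 := h1 ▸ h4.mul_left _
    have h6 : p ∣ (p ^ m) ^ 2 := (dvd_pow_self p hm).trans (dvd_pow_self _ two_ne_zero)
    have h7 : 1 ≤ (p ^ m) ^ 2 := Nat.one_le_pow _ _ (pow_pos hp.out.pos m)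
    have h8 : p ∣ (p ^ m) ^ 2 - ((p ^ m) ^ 2 - 1) := Nat.dvd_sub h6 h5
    have h9 : (p ^ m) ^ 2 - ((p ^ m) ^ 2 - 1) = 1 := by omega
    rw [h9] at h8
    exact hp.out.one_lt.ne' (Nat.dvd_one.1 h8)
  · have h4 := Cfsg.Agent.H394.SqPsu3.card_psu3 hF
    rw [h1] at h4
    apply Nat.eq_of_mul_eq_mul_left h0
    rw [h4]
    ring

theorem co_psu3 (hF : Fintype.card F = (p ^ m) ^ 2) (h3 : 3 ≤ p ^ m) (P : Sylow p (PSU 3 F (p ^ m))) :
    Nat.card P = (p ^ m) ^ 3 := by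
  obtain ⟨h, h1, h2, h4⟩ := card_T hF h3
  have hfin : Finite (PSU 3 F (p ^ m)) := Quotient.finite _
  have hm : m ≠ 0 := by
    rintro rfl
    rw [pow_zero] at h3
    omega
  rw [← pow_mul] at h4 ⊢
  refine card_syl' P (g := 1) (m := (p ^ (m * 3) + 1) * h) (by rw [one_mul, h4]) ?_ ?_
  · exact fun h5 => hp.out.one_lt.ne' (Nat.dvd_one.1 h5)
  · intro h5
    rcases hp.out.dvd_mul.1 h5 with h6 | h6
    · have h7 : p ∣ p ^ (m * 3) := dvd_pow_self p (by omega)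
      exact hp.out.one_lt.ne' (Nat.dvd_one.1 ((Nat.dvd_add_right h7).1 h6))
    · exact h2 h6

theorem cs_psu3 (hF : Fintype.card F = (p ^ m) ^ 2) (h3 : 3 ≤ p ^ m) :
    Nat.card (Sylow p (PSU 3 F (p ^ m))) = (p ^ m) ^ 3 + 1 := by
  obtain ⟨h, h1, h2, h4⟩ := card_T hF h3
  have hfin : Finite (PSU 3 F (p ^ m)) := Quotient.finite _
  have hs := simple_psu3 hF h3
  have hm : m ≠ 0 := by
    rintro rfl
    rw [pow_zero] at h3
    omega
  have hch : CharP F p := charP_of_card (k := m * 2) (by rw [hF, pow_mul])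
  obtain ⟨P⟩ : Nonempty (Sylow p (PSU 3 F (p ^ m))) := inferInstance
  have hP := co_psu3 hF h3 P
  have hTI := Cfsg.Agent.H394.SqPsu3.inf_of_ti (Cfsg.Agent.H394.SqPsu3.ti_psu3 (p := p) hF)
  have h5 := Cfsg.Agent.H394.SqTI.card_sylow_eq hTI P (h := h) ?_ ?_ ?_
  · rw [h5, hP, add_comm]
  · rw [hP, ← pow_mul]
    exact dvd_pow_self p (by omega)
  · rw [hP]
    exact h4
  · rw [hP]
    exact h1

end psu

end Cfsg.Agent.H367.PU
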