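import Cfsg.Agent.H367.PU.Odd
import Cfsg.Agent.H476.PU.Excl

/-!
# S5258, PU-U3 (helper367, with helper910, helper302, helper476)
-/

set_option autoImplicit false

namespace Cfsg.Agent.H367.PU

universe u

theorem excl : Excl.{u} := fun _ _ _ _ hp2 hn hS hexp hGL hinn h => Cfsg.Agent.H476.PU.excl hp2 hn hS hexp hGL hinn h

/-- **`StU3`.** -/
theorem stU3 : Cfsg.Agent.H756.PU.StU3.{u} := stU3_of excl

end Cfsg.Agent.H367.PU
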