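import Cfsg.Agent.H367.PU.Facts
import Cfsg.Agent.H193.StrP.LieFill
import Cfsg.Agent.H193.StrP.Spor
import Cfsg.Agent.H193.StrP.Main
import Cfsg.Agent.H496.SpTwF.Row
import Cfsg.Agent.H975.FieldInput
import Cfsg.Agent.H49.ThFiveRow
import Cfsg.Agent.H154.StrP.M13
import Cfsg.Agent.H746.MEleven.Final
import Cfsg.Agent.H810.StrP.TwE6Two
import Cfsg.Agent.OrdDiv.Table
import Cfsg.Agent.S0000

/-!
# S5258, PU-U3, `p` odd: identification of the almost simple quotient (helper367)
-/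

set_option autoImplicit false
set_option linter.unusedSectionVars false

namespace Cfsg.Agent.H367.PU

open Subgroup Cfsg Cfsg.Agent.H666.TI

universe u

/-- the numerical exclusions (helper476) -/
def Excl : Prop :=
  ∀ {K : Type u} [Group K] [Finite K] [IsSimpleGroup K], ¬ IsMulCommutative K → ∀ {p n : ℕ} [Fact p.Prime],
    p ≠ 2 → 1 ≤ n → (p ^ n) ^ 3 ∣ Nat.card (Sylow p K) - 1 →
    (∀ x : K, (∃ k, x ^ p ^ k = 1) → x ^ p = 1) →
    Nat.card K ∣ Nat.card (GL (Fin (6 * n)) (ZMod p)) →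
    (CpAut.AutInner p K → (Nat.card K).factorization p = 3 * n) →
    ((p = 3 ∧ Lie.IsoRee K) ∨ Nonempty (K ≃* ↥(alternatingGroup (Fin (2 * p)))) ∨
      (p = 3 ∧ (H193.StrP.IsL34 K ∨ H193.StrP.IsL28 K ∨ Cfsg.Spor.IsoM11 K)) ∨
      (p = 5 ∧ (Cfsg.Lie.IsoTits K ∨ H193.StrP.IsSz32 K ∨ Cfsg.Spor.IsoMcL K ∨ Cfsg.Spor.IsoFi22 K)) ∨
      (p = 11 ∧ Cfsg.Spor.IsoJ4 K)) → False

/-- S2120 with `p = 3` for the Ree groups -/
theorem main20 {X : Type u} [Group X] [Finite X] (K : Subgroup X) [K.Normal] (hs : IsSimpleGroup ↥K)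
    (hna : ¬ IsMulCommutative ↥K) (hc : centralizer (K : Set X) = ⊥)
    (p : ℕ) [hp : Fact p.Prime] (hp2 : p ≠ 2) (H : Subgroup X) (hH : IsStronglyPEmbedded p H) :
    (∀ P : Sylow p X, IsCyclic ↥P) ∨
    (∃ (F : Type) (_ : Field F) (_ : Fintype F), CharP F p ∧
      Nonempty (↥K ≃* Matrix.ProjectiveSpecialLinearGroup (Fin 2) F)) ∨
    (∃ (F : Type) (_ : Field F) (_ : Fintype F) (n : ℕ), 1 ≤ n ∧ Fintype.card F = p ^ (2 * n) ∧
      Nonempty (↥K ≃* Cfsg.PSU 3 F (p ^ n))) ∨
    (p = 3 ∧ Lie.IsoRee ↥K) ∨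
    Nonempty (↥K ≃* ↥(alternatingGroup (Fin (2 * p)))) ∨
    (p = 3 ∧ (H193.StrP.IsL34 ↥K ∨ H193.StrP.IsL28 ↥K ∨ Cfsg.Spor.IsoM11 ↥K)) ∨
    (p = 5 ∧ (Cfsg.Lie.IsoTits ↥K ∨ H193.StrP.IsSz32 ↥K ∨ Cfsg.Spor.IsoMcL ↥K ∨ Cfsg.Spor.IsoFi22 ↥K)) ∨
    (p = 11 ∧ Cfsg.Spor.IsoJ4 ↥K) := by
  have hK0 : ∀ (S : Type) [Group S] [Finite S] [IsSimpleGroup S], IsKnownSimple' S := fun S _ _ _ => S0000.result
  have hkn : IsKnownSimple' ↥K := S0000.result
  refine Cfsg.Agent.H193.StrP.main
    (H193.StrP.lieRow (H193.StrP.lieOpen_of fun h _ _ hp2 => H496.SpTwF.RowFin.row_2F4 h hp2))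
    (H193.StrP.sporRow ?_) H193.StrP.titsRow H975.FieldInput.fieldRow K hs hna hc hkn p hp2 H hH
  refine ⟨fun G _ _ h => H49.ThFive.nosp_th_5 OrdDiv.table hK0 h,
    fun G _ _ h => H746.MEleven.nosp_m_11 OrdDiv.table hK0 h,
    fun G _ _ h => H154.StrP.M13.nosp_m_13 OrdDiv.table hK0 h, ?_, hK0⟩
  intro K _ _ hF q hq
  simp only [List.mem_cons, List.not_mem_nil, or_false] at hq
  rcases hq with rfl | rfl | rfl
  · exact H810.StrP.TwE6Two.noSP3 hF
  · exact H810.StrP.TwE6Two.noSP5 hF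
  · exact H810.StrP.TwE6Two.noSP7 hF

section

variable {X : Type u} [Group X] [Finite X] {p : ℕ} [hp : Fact p.Prime]

/-- the Sylow subgroups lie in the normal subgroup `K` -/
theorem sylow_le {K : Subgroup X} [K.Normal] (P : Sylow p X) (R : Sylow p ↥K) (h : Nat.card P ≤ Nat.card R)
    (Q : Sylow p X) : (Q : Subgroup X) ≤ K := by
  have h1 : Nat.card ↥((Q : Subgroup X) ⊓ K : Subgroup X) = Nat.card R := card_inf_dvd Q R
  have h2 : (Q : Subgroup X) ⊓ K = Q := by
    refine Subgroup.eq_of_le_of_card_ge inf_le_left ?_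
    rw [h1]
    exact (card_eq_card' Q P).le.trans h
  rw [← h2]
  exact inf_le_right

theorem card_sylow_sub_le {K : Subgroup X} [K.Normal] (P : Sylow p X) (R : Sylow p ↥K) : Nat.card R ≤ Nat.card P := by
  rw [← card_inf_dvd P R]
  exact Subgroup.card_le_of_le inf_le_left

theorem card_sylow_congr {A B : Type*} [Group A] [Group B] [Finite A] [Finite B] (e : A ≃* B) :
    Nat.card (Sylow p A) = Nat.card (Sylow p B) := by
  have h1 : ∀ Q : Sylow p B, (Q : Subgroup B) ≤ (e : A →* B).range := by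
    intro Q x _
    exact ⟨e.symm x, e.apply_symm_apply x⟩
  have h2 : ∀ Q : Sylow p A, (Q : Subgroup A) ≤ (e.symm : B →* A).range := by
    intro Q x _
    exact ⟨e x, e.symm_apply_apply x⟩
  refine Nat.card_congr ⟨fun Q => Q.comapOfInjective (e.symm : B →* A) e.symm.injective (h2 Q),
    fun Q => Q.comapOfInjective (e : A →* B) e.injective (h1 Q), ?_, ?_⟩
  · intro Q
    apply Sylow.ext
    ext x
    show e.symm (e x) ∈ (Q : Subgroup A) ↔ _
    rw [e.symm_apply_apply]
  · intro Q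
    apply Sylow.ext
    ext x
    show e (e.symm x) ∈ (Q : Subgroup B) ↔ _
    rw [e.apply_symm_apply]

theorem exists_sylow_congr {A B : Type*} [Group A] [Group B] [Finite A] [Finite B] (e : A ≃* B) (Q : Sylow p A) :
    ∃ R : Sylow p B, (∀ x, x ∈ R ↔ e.symm x ∈ Q) ∧ Nat.card R = Nat.card Q := by
  have h2 : (Q : Subgroup A) ≤ (e.symm : B →* A).range := by
    intro x _
    exact ⟨e x, e.symm_apply_apply x⟩
  refine ⟨Q.comapOfInjective (e.symm : B →* A) e.symm.injective h2, fun x => Iff.rfl, ?_⟩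
  have h3 : ((Q.comapOfInjective (e.symm : B →* A) e.symm.injective h2 : Sylow p B) : Subgroup B).map (e.symm : B →* A) = Q :=
    Subgroup.map_comap_eq_self h2
  have hinj : Function.Injective (e.symm : B →* A) := e.symm.injective
  have h4 := Subgroup.card_map_of_injective (K := ((Q.comapOfInjective (e.symm : B →* A) e.symm.injective h2 : Sylow p B) :
    Subgroup B)) hinj
  rw [h3] at h4
  exact h4.symm

/-- **Identification of `F*(X)`.** -/
theorem ident (hE : Excl.{u}) (hp2 : p ≠ 2) {n : ℕ} (hn : 1 ≤ n) (hTI : IsTI p X) (P : Sylow p X)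
    (hs : IsSimpleGroup ↥(generalizedFittingSubgroup X)) (hna : ¬ IsMulCommutative ↥(generalizedFittingSubgroup X))
    (hcard : Nat.card P = (p ^ n) ^ 3) (hnab : ∃ x ∈ P, ∃ y ∈ P, x * y ≠ y * x) (hexp : ∀ x ∈ P, x ^ p = 1)
    (hGL : Nat.card X ∣ Nat.card (GL (Fin (6 * n)) (ZMod p))) :
    ∃ (F : Type) (_ : Field F) (_ : Fintype F), Fintype.card F = (p ^ n) ^ 2 ∧
      Nonempty (PSU 3 F (p ^ n) ≃* ↥(generalizedFittingSubgroup X)) ∧
      ∀ Q : Sylow p X, (Q : Subgroup X) ≤ generalizedFittingSubgroup X := by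
  have hKn : (generalizedFittingSubgroup X).Normal := Lib.GenFitting.genFitting_normal
  have hC := Cit.PieceEnd.centralizer_fstar hs hna
  obtain ⟨K, hK⟩ : ∃ K, generalizedFittingSubgroup X = K := ⟨_, rfl⟩
  have hkn : IsKnownSimple' ↥(generalizedFittingSubgroup X) := S0000.result
  have hncyc : ¬ IsCyclic (P : Subgroup X) := by
    intro hc
    obtain ⟨x, hx, y, hy, hxy⟩ := hnab
    apply hxy
    have hm : IsMulCommutative (P : Subgroup X) := IsCyclic.isMulCommutative
    have h1 := hm.is_comm.comm ⟨x, hx⟩ ⟨y, hy⟩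
    exact congrArg Subtype.val h1
  have hd : p ∣ Nat.card ↥(generalizedFittingSubgroup X) := by
    by_contra hd
    exact hncyc (H193.StrP.cyclic_of_not_dvd hs hna hkn hC hd P)
  have hP1 : (P : Subgroup X) ≠ ⊥ := by
    intro h
    apply hncyc
    rw [h]
    infer_instance
  obtain ⟨R⟩ : Nonempty (Sylow p ↥(generalizedFittingSubgroup X)) := inferInstance
  have hN : normalizer ((P : Subgroup X) : Set X) ≠ ⊤ := by
    intro h1
    have h2 : (P : Subgroup X).Normal := normalizer_eq_top_iff.1 h1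
    have h3 : ((P : Subgroup X).subgroupOf (generalizedFittingSubgroup X)).Normal := inferInstance
    obtain ⟨R', hR'⟩ := exists_inf (K := generalizedFittingSubgroup X) P
    rcases h3.eq_bot_or_eq_top with h4 | h4
    · have h5 : p ∣ Nat.card R' := R'.dvd_card_of_dvd_card hd
      rw [show Nat.card R' = Nat.card (R' : Subgroup ↥(generalizedFittingSubgroup X)) from rfl, hR', h4,
        Subgroup.card_bot] at h5
      exact hp.out.one_lt.ne' (Nat.dvd_one.1 h5)
    · apply hna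
      have h5 : IsPGroup p ↥(generalizedFittingSubgroup X) := by
        have h6 : IsPGroup p (⊤ : Subgroup ↥(generalizedFittingSubgroup X)) := by
          rw [← h4, ← hR']
          exact R'.isPGroup'
        exact h6.of_equiv Subgroup.topEquiv
      have h6 : (center ↥(generalizedFittingSubgroup X)).Normal := inferInstance
      rcases h6.eq_bot_or_eq_top with h7 | h7
      · exfalso
        have h8 := h5.center_nontrivial
        exact (Subgroup.nontrivial_iff_ne_bot _).1 h8 h7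
      · refine ⟨⟨fun a b => ?_⟩⟩
        have h8 : b ∈ center ↥(generalizedFittingSubgroup X) := by rw [h7]; exact mem_top b
        exact mem_center_iff.1 h8 a
  have hH := H666.Link.stronglyP hTI P hP1 hN
  have hS : (p ^ n) ^ 3 ∣ Nat.card (Sylow p ↥(generalizedFittingSubgroup X)) - 1 := by
    rw [card_sylow_normal hTI hd, ← hcard]
    exact card_dvd hTI P
  have hRP : Nat.card R ≤ (p ^ n) ^ 3 := hcard ▸ card_sylow_sub_le P R
  have hexpX : ∀ x : X, (∃ k, x ^ p ^ k = 1) → x ^ p = 1 := by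
    intro x hx
    obtain ⟨Q, hQ⟩ := exists_sylow_mem (p := p) hx
    obtain ⟨g, rfl⟩ := MulAction.exists_smul_eq X P Q
    obtain ⟨y, hy, hyx⟩ := hQ
    have h1 : g * y * g⁻¹ = x := hyx
    rw [← h1, conj_pow, hexp y hy, mul_one, mul_inv_cancel]
  have hexpK : ∀ x : ↥(generalizedFittingSubgroup X), (∃ k, x ^ p ^ k = 1) → x ^ p = 1 := by
    rintro x ⟨k, hk⟩
    exact Subtype.ext (hexpX x ⟨k, congrArg Subtype.val hk⟩)
  have hinn : CpAut.AutInner p ↥(generalizedFittingSubgroup X) →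
      (Nat.card ↥(generalizedFittingSubgroup X)).factorization p = 3 * n := by
    intro hi
    have h1 : (P : Subgroup X) ≤ generalizedFittingSubgroup X := by
      intro x hx
      by_cases hx1 : x = 1
      · rw [hx1]
        exact one_mem _
      · exact H193.StrP.mem_of_inner hC hi (orderOf_eq_prime (hexp x hx) hx1)
    have h2 := card_inf_dvd (K := generalizedFittingSubgroup X) P R
    rw [inf_eq_left.2 h1] at h2
    have h3 : p ^ (n * 3) = p ^ (Nat.card ↥(generalizedFittingSubgroup X)).factorization p := by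
      rw [← R.card_eq_multiplicity, ← h2, pow_mul, ← hcard]
    have h4 := Nat.pow_right_injective hp.out.two_le h3
    omega
  have hGLK : Nat.card ↥(generalizedFittingSubgroup X) ∣ Nat.card (GL (Fin (6 * n)) (ZMod p)) :=
    (Subgroup.card_subgroup_dvd_card _).trans hGL
  have hex := hE hna hp2 hn hS hexpK hGLK hinn
  rcases main20 (generalizedFittingSubgroup X) hs hna hC p hp2 _ hH with h | h | h | h | h | h | h | h
  · exact absurd (h P) hncyc
  · -- `PSL₂`
    exfalso
    obtain ⟨F, _, _, _, ⟨e⟩⟩ := h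
    obtain ⟨a, ha⟩ : ∃ a, Fintype.card F = p ^ a := by
      obtain ⟨a, -, ha⟩ := FiniteField.card F p
      exact ⟨a, ha⟩
    have h1 : Nat.card (Sylow p ↥(generalizedFittingSubgroup X)) = p ^ a + 1 := by
      rw [card_sylow_congr e, card_sylow_psl2, ha]
    rw [h1, Nat.add_sub_cancel] at hS
    obtain ⟨R', hR', hRc⟩ := exists_sylow_congr e R
    have h2 : Nat.card R' = p ^ a := by
      have h3 := Cfsg.Agent.H394.SqPsl2.card_psl (F := F)
      rw [ha] at h3
      have ha0 : a ≠ 0 := by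
        rintro rfl
        have := Fintype.one_lt_card (α := F)
        rw [ha] at this
        simp at this
      refine card_syl' R' h3 ?_ ?_
      · intro h4
        have h5 : p ≤ 2 := Nat.le_of_dvd (by norm_num) (h4.trans (Nat.gcd_dvd_left _ _))
        have := hp.out.two_le
        omega
      · intro h4
        have h6 : p ∣ (p ^ a) ^ 2 := (dvd_pow_self p ha0).trans (dvd_pow_self _ two_ne_zero)
        have h7 : 1 ≤ (p ^ a) ^ 2 := Nat.one_le_pow _ _ (pow_pos hp.out.pos a)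
        have h8 : p ∣ (p ^ a) ^ 2 - ((p ^ a) ^ 2 - 1) := Nat.dvd_sub h6 h4
        have h9 : (p ^ a) ^ 2 - ((p ^ a) ^ 2 - 1) = 1 := by omega
        rw [h9] at h8
        exact hp.out.one_lt.ne' (Nat.dvd_one.1 h8)
    have h3 : Nat.card P ≤ Nat.card R := by
      rw [← hRc, h2, hcard]
      exact Nat.le_of_dvd (pow_pos hp.out.pos a) hS
    have h4 := sylow_le P R h3
    obtain ⟨x, hx, y, hy, hxy⟩ := hnab
    obtain ⟨Q, hQ⟩ := exists_inf (K := generalizedFittingSubgroup X) P
    obtain ⟨Q', hQ', -⟩ := exists_sylow_congr e Q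
    apply hxy
    have h5 : ∀ z (hz : z ∈ P), e ⟨z, h4 P hz⟩ ∈ Q' := by
      intro z hz
      rw [hQ', e.symm_apply_apply]
      show _ ∈ (Q : Subgroup ↥(generalizedFittingSubgroup X))
      rw [hQ]
      exact hz
    have h6 := comm_psl2 Q' _ (h5 x hx) _ (h5 y hy)
    rw [← map_mul, ← map_mul] at h6
    exact congrArg Subtype.val (e.injective h6)
  · -- `PSU₃`
    obtain ⟨F, iF, iF', m, hm, hF, ⟨e⟩⟩ := h
    have hF' : Fintype.card F = (p ^ m) ^ 2 := by rw [hF, ← pow_mul, mul_comm]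
    have h3 : 3 ≤ p ^ m := by
      have h4 : 3 ≤ p := by
        have := hp.out.two_le
        omega
      exact h4.trans (Nat.le_self_pow (by omega) p)
    have hfin : Finite (PSU 3 F (p ^ m)) := Quotient.finite _
    have h1 : Nat.card (Sylow p ↥(generalizedFittingSubgroup X)) = (p ^ m) ^ 3 + 1 := by
      rw [card_sylow_congr e, cs_psu3 hF' h3]
    rw [h1, Nat.add_sub_cancel] at hS
    obtain ⟨R', hR', hRc⟩ := exists_sylow_congr e R
    have h2 : Nat.card R = (p ^ m) ^ 3 := by rw [← hRc, co_psu3 hF' h3]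
    have h5 : (p ^ m) ^ 3 = (p ^ n) ^ 3 :=
      le_antisymm (h2 ▸ hRP) (Nat.le_of_dvd (pow_pos (pow_pos hp.out.pos m) 3) hS)
    have h6 : m = n := by
      rw [← pow_mul, ← pow_mul] at h5
      have h7 := Nat.pow_right_injective hp.out.two_le h5
      omega
    subst h6
    exact ⟨F, iF, iF', hF', ⟨e.symm⟩, sylow_le P R (by rw [hcard, h2])⟩
  · exact (hex (Or.inl h)).elim
  · exact (hex (Or.inr (Or.inl h))).elim
  · exact (hex (Or.inr (Or.inr (Or.inl h)))).elim
  · exact (hex (Or.inr (Or.inr (Or.inr (Or.inl h))))).elim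
  · exact (hex (Or.inr (Or.inr (Or.inr (Or.inr h))))).elim

end

end Cfsg.Agent.H367.PU
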