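import Cfsg.Agent.H367.PU.Quo
import Cfsg.Agent.H756.PU.Stmts

/-!
# S5258, PU-U3: the conclusions of `StU3` (helper367)

* `Concl` : the conclusions of `StU3`;
* `Concl.of_inj` : from `K` to `X` along an injection whose range contains the Sylow subgroups;
* `Concl.of_quot` : from `G / N` to `G`, `N` a `p'`-core centralizing the Sylow subgroups;
* `U3F` : the facts about `PSU₃(q)`, `Concl.of_u3f`.
-/

set_option autoImplicit false
set_option linter.unusedSectionVars false

namespace Cfsg.Agent.H367.PU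

open Subgroup Cfsg.Agent.H666.TI
open scoped Pointwise

/-- the swapping elements -/
def Swap {p : ℕ} {G : Type*} [Group G] (P P' : Sylow p G) : Prop :=
  ∃ x y : G, x ∈ (P : Subgroup G) ∧ (∀ z ∈ (P : Subgroup G), x * z = z * x) ∧
      y ∈ (P' : Subgroup G) ∧ (∀ z ∈ (P' : Subgroup G), y * z = z * y) ∧
      (P : Subgroup G).map (MulAut.conj (x * y * x)).toMonoidHom = P' ∧
      (P' : Subgroup G).map (MulAut.conj (x * y * x)).toMonoidHom = P

/-- `h` acts on `P / Z(P)` with order divisible by `8` -/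
def Eight {p : ℕ} {G : Type*} [Group G] (P : Sylow p G) (h : G) : Prop :=
  h ∈ normalizer ((P : Subgroup G) : Set G) ∧ ∀ k : ℕ, 0 < k → k < 8 → ∃ x ∈ (P : Subgroup G), ∃ y ∈ (P : Subgroup G),
        (h ^ k * x * (h ^ k)⁻¹ * x⁻¹) * y ≠ y * (h ^ k * x * (h ^ k)⁻¹ * x⁻¹)

/-- the conclusions of `StU3` -/
def Concl {G : Type*} [Group G] (p n : ℕ) (P : Sylow p G) : Prop :=
    (∀ P' P'' : Sylow p G, P' ≠ P → P'' ≠ P → ∃ x ∈ (P : Subgroup G),
      (P' : Subgroup G).map (MulAut.conj x).toMonoidHom = P'') ∧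
    (∀ P' : Sylow p G, P' ≠ P → ∃ x y : G, x ∈ (P : Subgroup G) ∧ (∀ z ∈ (P : Subgroup G), x * z = z * x) ∧
      y ∈ (P' : Subgroup G) ∧ (∀ z ∈ (P' : Subgroup G), y * z = z * y) ∧
      (P : Subgroup G).map (MulAut.conj (x * y * x)).toMonoidHom = P' ∧
      (P' : Subgroup G).map (MulAut.conj (x * y * x)).toMonoidHom = P) ∧
    (p ^ n = 3 → ∃ h ∈ Subgroup.normalizer ((P : Subgroup G) : Set G),
      h ∈ Subgroup.normalClosure ((P : Subgroup G) : Set G) ∧ ∀ k : ℕ, 0 < k → k < 8 → ∃ x ∈ (P : Subgroup G), ∃ y ∈ (P : Subgroup G),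
        (h ^ k * x * (h ^ k)⁻¹ * x⁻¹) * y ≠ y * (h ^ k * x * (h ^ k)⁻¹ * x⁻¹))

/-- the facts about `PSU₃(pⁿ)` -/
structure U3F (p n : ℕ) (T : Type*) [Group T] : Prop where
  /-- the number of Sylow subgroups -/
  cs : Nat.card (Sylow p T) = (p ^ n) ^ 3 + 1
  /-- the order of the Sylow subgroups -/
  co : ∀ P : Sylow p T, Nat.card P = (p ^ n) ^ 3
  sw : ∀ P P' : Sylow p T, P' ≠ P → Swap P P'
  e8 : p ^ n = 3 → ∀ P : Sylow p T, ∃ h, Eight P h

section

variable {p n : ℕ} {G : Type*} [Group G] [hp : Fact p.Prime]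

theorem smul_coe (P : Sylow p G) (g : G) :
    ((g • P : Sylow p G) : Subgroup G) = (P : Subgroup G).map (MulAut.conj g).toMonoidHom := rfl

theorem map_conj_eq_iff (P P' : Sylow p G) (g : G) :
    (P : Subgroup G).map (MulAut.conj g).toMonoidHom = P' ↔ g • P = P' := by
  constructor
  · intro h
    exact Sylow.ext h
  · intro h
    rw [← h]
    rfl

/-- from `K` to `X` -/
theorem Swap.of_inj {K : Type*} [Group K] (f : K →* G) (hf : Function.Injective f) {P P' : Sylow p G}
    (hP : (P : Subgroup G) ≤ f.range) (hP' : (P' : Subgroup G) ≤ f.range)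
    (h : Swap (P.comapOfInjective f hf hP) (P'.comapOfInjective f hf hP')) : Swap P P' := by
  obtain ⟨x, y, h1, h2, h3, h4, h5, h6⟩ := h
  have h1' : f x ∈ (P : Subgroup G) := h1
  have h3' : f y ∈ (P' : Subgroup G) := h3
  have key : ∀ (g : K) (A B : Sylow p G) (hA : (A : Subgroup G) ≤ f.range) (hB : (B : Subgroup G) ≤ f.range),
      ((A.comapOfInjective f hf hA : Sylow p K) : Subgroup K).map (MulAut.conj g).toMonoidHom =
        (B.comapOfInjective f hf hB : Sylow p K) →
      (A : Subgroup G).map (MulAut.conj (f g)).toMonoidHom = B := by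
    intro g A B hA hB hAB
    have e1 : ((B : Subgroup G).comap f).map f = B := Subgroup.map_comap_eq_self hB
    have e2 : ((A : Subgroup G).comap f).map f = A := Subgroup.map_comap_eq_self hA
    have e3 : ((A : Subgroup G).comap f).map (MulAut.conj g).toMonoidHom = (B : Subgroup G).comap f := hAB
    rw [← e1, ← e3, Subgroup.map_map]
    conv_lhs => rw [← e2]
    rw [Subgroup.map_map]
    congr 1
    ext z
    simp
  refine ⟨f x, f y, h1', ?_, h3', ?_, ?_, ?_⟩
  · intro z hz
    obtain ⟨w, rfl⟩ := hP hz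
    rw [← map_mul, ← map_mul, h2 w hz]
  · intro z hz
    obtain ⟨w, rfl⟩ := hP' hz
    rw [← map_mul, ← map_mul, h4 w hz]
  · have e : f x * f y * f x = f (x * y * x) := by rw [map_mul, map_mul]
    rw [e]
    exact key _ P P' hP hP' h5
  · have e : f x * f y * f x = f (x * y * x) := by rw [map_mul, map_mul]
    rw [e]
    exact key _ P' P hP' hP h6

theorem Eight.of_inj {K : Type*} [Group K] (f : K →* G) (hf : Function.Injective f) {P : Sylow p G}
    (hP : (P : Subgroup G) ≤ f.range) {h : K} (hh : Eight (P.comapOfInjective f hf hP) h) : Eight P (f h) := by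
  obtain ⟨h1, h2⟩ := hh
  constructor
  · rw [mem_normalizer_iff] at h1 ⊢
    intro y
    have e : ∀ z : K, z ∈ ((P.comapOfInjective f hf hP : Sylow p K) : Subgroup K) ↔ f z ∈ (P : Subgroup G) := fun z => Iff.rfl
    constructor
    · intro hy
      obtain ⟨w, rfl⟩ := hP hy
      rw [← map_inv, ← map_mul, ← map_mul]
      exact (h1 w).1 hy
    · intro hy
      obtain ⟨w, hw⟩ := hP hy
      have h3 : y = f (h⁻¹ * w * h) := by
        rw [map_mul, map_mul, hw, map_inv]
        group
      rw [h3]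
      refine (h1 _).2 ?_
      rw [e]
      have h4 : h * (h⁻¹ * w * h) * h⁻¹ = w := by group
      rw [h4, hw]
      exact hy
  · intro k hk hk8
    obtain ⟨x, hx, y, hy, hne⟩ := h2 k hk hk8
    refine ⟨f x, hx, f y, hy, fun h3 => hne (hf ?_)⟩
    simpa only [map_mul, map_inv, map_pow] using h3

/-- from `G / N` to `G` -/
theorem Swap.of_quot [Finite G] {N : Subgroup G} [N.Normal] (hN : CQ p N) {P P' : Sylow p G}
    (h : Swap (P.mapSurjective (QuotientGroup.mk'_surjective N)) (P'.mapSurjective (QuotientGroup.mk'_surjective N))) :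
    Swap P P' := by
  obtain ⟨_, _, ⟨x, hx, rfl⟩, h2, ⟨y, hy, rfl⟩, h4, h5, h6⟩ := h
  have key : ∀ (g : G) (A B : Sylow p G),
      ((A.mapSurjective (QuotientGroup.mk'_surjective N) : Sylow p (G ⧸ N)) : Subgroup (G ⧸ N)).map
        (MulAut.conj (QuotientGroup.mk' N g)).toMonoidHom = (B.mapSurjective (QuotientGroup.mk'_surjective N) : Sylow p (G ⧸ N)) →
      (A : Subgroup G).map (MulAut.conj g).toMonoidHom = B := by
    intro g A B hAB
    rw [map_conj_eq_iff]
    apply hN.inj
    have e1 : ((A : Subgroup G).map (QuotientGroup.mk' N)).map (MulAut.conj (QuotientGroup.mk' N g)).toMonoidHom =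
        (B : Subgroup G).map (QuotientGroup.mk' N) := hAB
    rw [← e1, smul_coe, Subgroup.map_map, Subgroup.map_map]
    congr 1
  refine ⟨x, y, hx, ?_, hy, ?_, key _ P P' ?_, key _ P' P ?_⟩
  · intro z hz
    exact hN.injOn P (mul_mem hx hz) (mul_mem hz hx) (by
      rw [map_mul, map_mul]
      exact h2 _ ⟨z, hz, rfl⟩)
  · intro z hz
    exact hN.injOn P' (mul_mem hy hz) (mul_mem hz hy) (by
      rw [map_mul, map_mul]
      exact h4 _ ⟨z, hz, rfl⟩)
  · have e : QuotientGroup.mk' N (x * y * x) = QuotientGroup.mk' N x * QuotientGroup.mk' N y * QuotientGroup.mk' N x := by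
      rw [map_mul, map_mul]
    rw [e]
    exact h5
  · have e : QuotientGroup.mk' N (x * y * x) = QuotientGroup.mk' N x * QuotientGroup.mk' N y * QuotientGroup.mk' N x := by
      rw [map_mul, map_mul]
    rw [e]
    exact h6

theorem Eight.of_quot [Finite G] {N : Subgroup G} [N.Normal] (hN : CQ p N) {P : Sylow p G} {h : G}
    (hh : Eight (P.mapSurjective (QuotientGroup.mk'_surjective N)) (QuotientGroup.mk' N h)) : Eight P h := by
  obtain ⟨h1, h2⟩ := hh
  constructor
  · apply Sylow.smul_eq_iff_mem_normalizer.1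
    apply hN.inj
    have h3 := Sylow.smul_eq_iff_mem_normalizer.2 h1
    have h4 := congrArg (fun R : Sylow p (G ⧸ N) => (R : Subgroup (G ⧸ N))) h3
    have h5 : ((P : Subgroup G).map (QuotientGroup.mk' N)).map (MulAut.conj (QuotientGroup.mk' N h)).toMonoidHom =
        (P : Subgroup G).map (QuotientGroup.mk' N) := h4
    rw [smul_coe, Subgroup.map_map]
    refine Eq.trans ?_ h5
    rw [Subgroup.map_map]
    congr 1
  · intro k hk hk8
    obtain ⟨_, ⟨x, hx, rfl⟩, _, ⟨y, hy, rfl⟩, hne⟩ := h2 k hk hk8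
    refine ⟨x, hx, y, hy, fun h3 => hne ?_⟩
    have h4 := congrArg (QuotientGroup.mk' N) h3
    simpa only [map_mul, map_inv, map_pow] using h4

/-- **The conclusions from the facts about `PSU₃(q)`**: `T ≅ K ⊴ G / N`, the Sylow subgroups lie in `K`. -/
theorem concl_of [Finite G] {N : Subgroup G} [N.Normal] (hN : CQ p N) {T : Type*} [Group T] [IsSimpleGroup T]
    (hT : U3F p n T) (hTI : IsTI p G) (P : Sylow p G) (hP : Nat.card P = (p ^ n) ^ 3)
    (f : T →* G ⧸ N) (hf : Function.Injective f) (hr : ∀ Q : Sylow p (G ⧸ N), (Q : Subgroup (G ⧸ N)) ≤ f.range)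
    (hc : Nat.card (Sylow p G) = Nat.card (Sylow p T)) : Concl p n P := by
  refine ⟨?_, ?_, ?_⟩
  · intro P' P'' hP' hP''
    obtain ⟨x, hx, h⟩ := conj_trans hTI P (by rw [hc, hT.cs, hP]) hP' hP''
    exact ⟨x, hx, (map_conj_eq_iff _ _ _).2 h⟩
  · intro P' hP'
    refine Swap.of_quot hN (Swap.of_inj f hf (hr _) (hr _) (hT.sw _ _ ?_))
    intro h
    apply hP'
    apply hN.inj
    have h1 := congrArg (fun R : Sylow p T => (R : Subgroup T).map f) h
    have h2 : ∀ Q : Sylow p (G ⧸ N), ((Q.comapOfInjective f hf (hr Q) : Sylow p T) : Subgroup T).map f = Q := fun Q =>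
      Subgroup.map_comap_eq_self (hr Q)
    simp only [h2] at h1
    exact h1
  · intro h3
    obtain ⟨h, hh⟩ := hT.e8 h3 ((P.mapSurjective (QuotientGroup.mk'_surjective N)).comapOfInjective f hf (hr _))
    have h4 := Eight.of_inj f hf (hr _) hh
    have h5 : f h ∈ (normalClosure ((P : Subgroup G) : Set G)).map (QuotientGroup.mk' N) := by
      have e1 : (((normalClosure ((P : Subgroup G) : Set G)).map (QuotientGroup.mk' N)).comap f).Normal := by
        have e2 : ((normalClosure ((P : Subgroup G) : Set G)).map (QuotientGroup.mk' N)).Normal :=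
          Subgroup.Normal.map inferInstance _ (QuotientGroup.mk'_surjective N)
        exact e2.comap f
      rcases e1.eq_bot_or_eq_top with e2 | e2
      · exfalso
        have e3 : ((P.mapSurjective (QuotientGroup.mk'_surjective N)).comapOfInjective f hf (hr _) : Subgroup T) ≤
            ((normalClosure ((P : Subgroup G) : Set G)).map (QuotientGroup.mk' N)).comap f := by
          refine Subgroup.comap_mono ?_
          exact Subgroup.map_mono subset_normalClosure
        rw [e2, le_bot_iff] at e3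
        have e4 := hT.co ((P.mapSurjective (QuotientGroup.mk'_surjective N)).comapOfInjective f hf (hr _))
        rw [show Nat.card ((P.mapSurjective (QuotientGroup.mk'_surjective N)).comapOfInjective f hf (hr _)) = Nat.card
          ((P.mapSurjective (QuotientGroup.mk'_surjective N)).comapOfInjective f hf (hr _) : Subgroup T) from rfl, e3,
          Subgroup.card_bot, h3] at e4
        omega
      · have e3 : h ∈ ((normalClosure ((P : Subgroup G) : Set G)).map (QuotientGroup.mk' N)).comap f := by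
          rw [e2]
          exact mem_top h
        exact e3
    obtain ⟨g, hg, hgf⟩ := h5
    rw [← hgf] at h4
    obtain ⟨h6, h7⟩ := Eight.of_quot hN h4
    exact ⟨g, h6, hg, h7⟩

end

end Cfsg.Agent.H367.PU
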