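import Cfsg.Agent.H367.PU.Ident
import Cfsg.Agent.H910.PU.Even
import Cfsg.Agent.H302.PU.Tor
import Cfsg.Agent.S2869

/-!
# S5258, PU-U3, `p` odd (helper367)

`stU3_odd` : the odd case of `StU3`; `stU3` : `StU3`.
-/

set_option autoImplicit false
set_option linter.unusedSectionVars false

namespace Cfsg.Agent.H367.PU

open Subgroup Cfsg Cfsg.Agent.H666.TI
open scoped Pointwise

universe u

theorem u3f {F : Type} [Field F] [Fintype F] {p n : ℕ} [hp : Fact p.Prime] (hF : Fintype.card F = (p ^ n) ^ 2)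
    (h3 : 3 ≤ p ^ n) : U3F p n (PSU 3 F (p ^ n)) where
  cs := cs_psu3 hF h3
  co := co_psu3 hF h3
  sw := fun P P' h => by
    have hfin : Finite (PSU 3 F (p ^ n)) := Quotient.finite _
    have hn : n ≠ 0 := by
      rintro rfl
      rw [pow_zero] at h3
      omega
    exact (Cfsg.Agent.H910.PU.Fac.sylow P (Cfsg.Agent.H910.PU.fac_psu hF (Nat.one_le_iff_ne_zero.2 hn) rfl P)).2 P' h
  e8 := fun h P => by
    have hn : n ≠ 0 := by
      rintro rfl
      rw [pow_zero] at h3
      omega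
    have h5 : p = 3 := by
      have h6 : p ∣ 3 := h ▸ dvd_pow_self p hn
      exact (Nat.prime_dvd_prime_iff_eq hp.out Nat.prime_three).1 h6
    subst h5
    obtain ⟨g, hg, hg'⟩ := Cfsg.Agent.H302.PU.e8_of hF h P
    exact ⟨g, hg, hg'⟩

/-- **The odd case of `StU3`.** -/
theorem stU3_odd (hE : Excl.{u}) {G : Type u} [Group G] [Finite G] {p n : ℕ} [hp : Fact p.Prime] (P : Sylow p G)
    (hp2 : p ≠ 2) (hn : 1 ≤ n) (hq : 2 < p ^ n)
    (hTI : ∀ g : G, g ∉ Subgroup.normalizer ((P : Subgroup G) : Set G) → ∀ x ∈ (P : Subgroup G),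
      g * x * g⁻¹ ∈ (P : Subgroup G) → x = 1)
    (hnn : ¬ (P : Subgroup G).Normal) (hP : Nat.card P = (p ^ n) ^ 3) (hZ : Nat.card (Subgroup.center P) = p ^ n)
    (hc : commutator P = Subgroup.center P) (hexp : ∀ x : P, x ^ p = 1)
    (hGL : Nat.card G ∣ Nat.card (GL (Fin (6 * n)) (ZMod p))) : Concl p n P := by
  have hti : IsTI p G := isTI_of_hyp P hTI
  -- `P` is not abelian
  have hnab : ∃ x ∈ P, ∃ y ∈ P, x * y ≠ y * x := by
    by_contra hcon
    push Not at hcon
    have h1 : commutator P = ⊥ := by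
      rw [commutator_def, commutator_eq_bot_iff_le_centralizer]
      intro x _
      rw [mem_centralizer_iff]
      intro y _
      exact Subtype.ext (hcon y y.2 x x.2)
    rw [← hc, h1, Subgroup.card_bot] at hZ
    omega
  have hncyc : ¬ IsCyclic (P : Subgroup G) := by
    intro hcy
    obtain ⟨x, hx, y, hy, hxy⟩ := hnab
    apply hxy
    have hm : IsMulCommutative (P : Subgroup G) := IsCyclic.isMulCommutative
    have h1 := hm.is_comm.comm ⟨x, hx⟩ ⟨y, hy⟩
    exact congrArg Subtype.val h1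
  obtain ⟨A, hAP, hA, hAn⟩ := exists_abelian hp2 P hncyc
  have hcore : ∀ x ∈ pPrimeCore p G, ∀ y ∈ (P : Subgroup G), x * y = y * x := fun x hx y hy =>
    core_comm hti P hAP hAn hx hy
  have hNn : (pPrimeCore p G).Normal := inferInstance
  have hCQ : CQ p (pPrimeCore p G) := by
    refine ⟨inferInstance, Lib.Cores.pPrimeCore_coprime p, ?_⟩
    intro Q x hx y hy
    obtain ⟨g, rfl⟩ := MulAction.exists_smul_eq G P Q
    obtain ⟨z, hz, hzy⟩ := hy
    have h1 : g * z * g⁻¹ = y := hzy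
    have h2 : g⁻¹ * x * g ∈ pPrimeCore p G := by
      have := hNn.conj_mem x hx g⁻¹
      rwa [inv_inv] at this
    have h3 := hcore _ h2 z hz
    calc x * y = g * (g⁻¹ * x * g * z) * g⁻¹ := by rw [← h1]; group
      _ = g * (z * (g⁻¹ * x * g)) * g⁻¹ := by rw [h3]
      _ = y * x := by rw [← h1]; group
  have hP1 : (P : Subgroup G) ≠ ⊥ := by
    intro h
    apply hncyc
    rw [h]
    infer_instance
  have hN : normalizer ((P : Subgroup G) : Set G) ≠ ⊤ := fun h => hnn (normalizer_eq_top_iff.1 h)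
  have hH := H666.Link.stronglyP hti P hP1 hN
  have hle : pPrimeCore p G ≤ normalizer ((P : Subgroup G) : Set G) := by
    intro x hx
    refine centralizer_le_normalizer _ ?_
    rw [mem_centralizer_iff]
    intro y hy
    exact (hcore x hx y hy).symm
  obtain ⟨hs, hna⟩ := S2869.result (normalizer ((P : Subgroup G) : Set G)) hH (by rwa [sup_eq_left.2 hle])
  -- the quotient
  have hsurj := QuotientGroup.mk'_surjective (pPrimeCore p G)
  obtain ⟨Pb, hPb⟩ : ∃ Pb : Sylow p (G ⧸ pPrimeCore p G), Pb = P.mapSurjective hsurj := ⟨_, rfl⟩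
  have hmap : (P : Subgroup G).map (QuotientGroup.mk' (pPrimeCore p G)) = Pb := by rw [hPb]; rfl
  obtain ⟨ε, hε⟩ := hCQ.exists_equiv hmap
  have htiX := hCQ.isTI hti
  obtain ⟨F, iF, iF', hF, ⟨e⟩, hSyl⟩ := ident hE hp2 hn htiX Pb hs hna
    (by
      rw [← hP]
      exact (Nat.card_congr ε.toEquiv).symm)
    (by
      obtain ⟨x, hx, y, hy, hxy⟩ := hnab
      refine ⟨ε ⟨x, hx⟩, (ε ⟨x, hx⟩).2, ε ⟨y, hy⟩, (ε ⟨y, hy⟩).2, fun h => hxy ?_⟩
      have h1 : ε (⟨x, hx⟩ * ⟨y, hy⟩) = ε (⟨y, hy⟩ * ⟨x, hx⟩) := by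
        rw [map_mul, map_mul]
        exact Subtype.ext h
      exact congrArg Subtype.val (ε.injective h1))
    (by
      intro x hx
      obtain ⟨y, hy⟩ := ε.surjective ⟨x, hx⟩
      have h1 : (ε y) ^ p = 1 := by rw [← map_pow, hexp, map_one]
      rw [hy] at h1
      exact congrArg Subtype.val h1)
    ((Subgroup.card_quotient_dvd_card _).trans hGL)
  have h3 : 3 ≤ p ^ n := hq
  have hsT := simple_psu3 hF h3
  have hfin : Finite (PSU 3 F (p ^ n)) := Quotient.finite _
  obtain ⟨f, hf⟩ : ∃ f : PSU 3 F (p ^ n) →* G ⧸ pPrimeCore p G,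
      f = (generalizedFittingSubgroup (G ⧸ pPrimeCore p G)).subtype.comp e.toMonoidHom := ⟨_, rfl⟩
  have hfi : Function.Injective f := by
    rw [hf]
    exact (Subgroup.subtype_injective _).comp e.injective
  have hfr : generalizedFittingSubgroup (G ⧸ pPrimeCore p G) ≤ f.range := by
    intro x hx
    refine ⟨e.symm ⟨x, hx⟩, ?_⟩
    rw [hf]
    show ((e (e.symm ⟨x, hx⟩) : ↥(generalizedFittingSubgroup (G ⧸ pPrimeCore p G))) : G ⧸ pPrimeCore p G) = x
    rw [e.apply_symm_apply]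
  refine concl_of hCQ (u3f hF h3) hti P hP f hfi (fun Q => (hSyl Q).trans hfr) ?_
  have hKn : (generalizedFittingSubgroup (G ⧸ pPrimeCore p G)).Normal := Lib.GenFitting.genFitting_normal
  have hd : p ∣ Nat.card ↥(generalizedFittingSubgroup (G ⧸ pPrimeCore p G)) := by
    have h4 := Subgroup.card_dvd_of_le (hSyl Pb)
    have h5 : Nat.card (Pb : Subgroup (G ⧸ pPrimeCore p G)) = (p ^ n) ^ 3 := by
      rw [← hP]
      exact (Nat.card_congr ε.toEquiv).symm
    rw [h5] at h4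
    exact ((dvd_pow_self p (by omega)).trans (dvd_pow_self _ (by norm_num))).trans h4
  rw [← hCQ.card_sylow, ← card_sylow_normal (K := generalizedFittingSubgroup (G ⧸ pPrimeCore p G)) htiX hd]
  exact card_sylow_congr e.symm

/-- **`StU3`** from the numerical exclusions. -/
theorem stU3_of (hE : Excl.{u}) : Cfsg.Agent.H756.PU.StU3.{u} :=
  Cfsg.Agent.H910.PU.stU3_of_odd fun P hp2 h1 h2 h3 h4 h5 h6 h7 h8 h9 => stU3_odd hE P hp2 h1 h2 h3 h4 h5 h6 h7 h8 h9

end Cfsg.Agent.H367.PU
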