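import Cfsg.Agent.H367.PU.TIAct

/-!
# S5258, PU-U3: TI Sylow subgroups and the quotient by a `p'`-core centralizing them (helper367)
-/

set_option autoImplicit false
set_option linter.unusedSectionVars false

namespace Cfsg.Agent.H367.PU

open Subgroup Cfsg.Agent.H666.TI
open scoped Pointwise

variable {G : Type*} [Group G] [Finite G] {p : ℕ} [hp : Fact p.Prime]

/-- `N` is a normal `p'`-subgroup centralizing all Sylow `p`-subgroups -/
structure CQ (p : ℕ) (N : Subgroup G) : Prop where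
  normal : N.Normal
  cop : (Nat.card N).Coprime p
  comm : ∀ Q : Sylow p G, ∀ x ∈ N, ∀ y ∈ Q, x * y = y * x

variable {N : Subgroup G}

theorem eq_one_of_mul (hN : (Nat.card N).Coprime p) {x o : G} (hx : PElt p x) (ho : o ∈ N) (hc : o * x = x * o)
    (hxo : PElt p (x * o)) : o = 1 := by
  obtain ⟨k, hk⟩ := hx
  obtain ⟨l, hl⟩ := hxo
  have h1 : o ^ p ^ (k + l) = 1 := by
    have h2 : (x * o) ^ p ^ (k + l) = x ^ p ^ (k + l) * o ^ p ^ (k + l) := (show Commute x o from hc.symm).mul_pow _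
    have h3 : (x * o) ^ p ^ (k + l) = 1 := by rw [pow_add, mul_comm, pow_mul, hl, one_pow]
    have h4 : x ^ p ^ (k + l) = 1 := by rw [pow_add, pow_mul, hk, one_pow]
    rw [h3, h4, one_mul] at h2
    exact h2.symm
  refine PElt.eq_one (p := p) ⟨_, h1⟩ (n := Nat.card N) ?_ ?_
  · have h5 := pow_card_eq_one' (x := (⟨o, ho⟩ : N))
    exact congrArg Subtype.val h5
  · intro h6
    exact hp.out.one_lt.ne' (Nat.eq_one_of_dvd_coprimes hN h6 dvd_rfl)

namespace CQ

variable (hN : CQ p N)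
include hN

theorem le_of_map_le {Q R : Sylow p G} (h : ∀ r ∈ R, ∃ x ∈ Q, x⁻¹ * r ∈ N) : R = Q := by
  have h1 : (R : Subgroup G) ≤ Q := by
    intro r hr
    obtain ⟨x, hx, hxr⟩ := h r hr
    have h2 : x⁻¹ * r = 1 := by
      refine eq_one_of_mul hN.cop (pElt_of_mem Q.isPGroup' hx) hxr (hN.comm Q _ hxr x hx) ?_
      rw [mul_inv_cancel_left]
      exact pElt_of_mem R.isPGroup' hr
    have h3 : r = x := (inv_mul_eq_one.1 h2).symm
    rw [h3]
    exact hx
  exact (Sylow.ext (R.is_maximal' Q.isPGroup' h1)).symm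

theorem inj {Q R : Sylow p G} [N.Normal]
    (h : (Q : Subgroup G).map (QuotientGroup.mk' N) = (R : Subgroup G).map (QuotientGroup.mk' N)) : Q = R := by
  refine hN.le_of_map_le fun r hr => ?_
  have h1 : QuotientGroup.mk' N r ∈ (R : Subgroup G).map (QuotientGroup.mk' N) := h ▸ ⟨r, hr, rfl⟩
  obtain ⟨x, hx, hxr⟩ := h1
  exact ⟨x, hx, QuotientGroup.eq.1 hxr⟩

omit hN in
theorem exists_lift [N.Normal] (Q : Sylow p (G ⧸ N)) :
    ∃ P : Sylow p G, (P : Subgroup G).map (QuotientGroup.mk' N) = Q := by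
  obtain ⟨P, hP⟩ := Sylow.mapSurjective_surjective (QuotientGroup.mk'_surjective N) p Q
  exact ⟨P, congrArg (fun R : Sylow p (G ⧸ N) => (R : Subgroup (G ⧸ N))) hP⟩

theorem isTI [N.Normal] (hTI : IsTI p G) : IsTI p (G ⧸ N) := by
  refine isTI_of_sylow fun P Q x hxP hxQ hx => ?_
  obtain ⟨P, hP⟩ := exists_lift P
  obtain ⟨Q, hQ⟩ := exists_lift Q
  have h1 : x ∈ (P : Subgroup G).map (QuotientGroup.mk' N) := hP ▸ hxP
  have h2 : x ∈ (Q : Subgroup G).map (QuotientGroup.mk' N) := hQ ▸ hxQ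
  obtain ⟨y, hy, hyx⟩ := h1
  obtain ⟨z, hz, hzx⟩ := h2
  have h3 : y⁻¹ * z ∈ N := QuotientGroup.eq.1 (hyx.trans hzx.symm)
  have h4 : y⁻¹ * z = 1 := by
    refine eq_one_of_mul hN.cop (pElt_of_mem P.isPGroup' hy) h3 (hN.comm P _ h3 y hy) ?_
    rw [mul_inv_cancel_left]
    exact pElt_of_mem Q.isPGroup' hz
  have h5 : y = z := inv_mul_eq_one.1 h4
  have h6 : P = Q := by
    refine hTI.sylow_eq hy (h5 ▸ hz) ?_
    rintro rfl
    exact hx (hyx ▸ map_one _)
  apply Sylow.ext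
  rw [← hP, ← hQ, h6]

theorem injOn [N.Normal] (P : Sylow p G) {x y : G} (hx : x ∈ P) (hy : y ∈ P)
    (h : QuotientGroup.mk' N x = QuotientGroup.mk' N y) : x = y := by
  have h3 : x⁻¹ * y ∈ N := QuotientGroup.eq.1 h
  have h4 : x⁻¹ * y = 1 := by
    refine eq_one_of_mul hN.cop (pElt_of_mem P.isPGroup' hx) h3 (hN.comm P _ h3 x hx) ?_
    rw [mul_inv_cancel_left]
    exact pElt_of_mem P.isPGroup' hy
  exact inv_mul_eq_one.1 h4

/-- the isomorphism of a Sylow subgroup with its image -/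
theorem exists_equiv [N.Normal] {P : Sylow p G} {P' : Sylow p (G ⧸ N)}
    (h : (P : Subgroup G).map (QuotientGroup.mk' N) = P') :
    ∃ e : (P : Subgroup G) ≃* (P' : Subgroup (G ⧸ N)), ∀ x, ((e x : (P' : Subgroup (G ⧸ N))) : G ⧸ N) = QuotientGroup.mk' N x := by
  have h1 : Function.Injective ((QuotientGroup.mk' N).subgroupMap (P : Subgroup G)) := by
    intro x y hxy
    exact Subtype.ext (hN.injOn P x.2 y.2 (congrArg Subtype.val hxy))
  let e := (MulEquiv.ofBijective ((QuotientGroup.mk' N).subgroupMap (P : Subgroup G))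
    ⟨h1, (QuotientGroup.mk' N).subgroupMap_surjective _⟩).trans (MulEquiv.subgroupCongr h)
  exact ⟨e, fun x => rfl⟩

theorem card_sylow [N.Normal] : Nat.card (Sylow p (G ⧸ N)) = Nat.card (Sylow p G) := by
  refine (Nat.card_congr (Equiv.ofBijective (fun P : Sylow p G => P.mapSurjective (QuotientGroup.mk'_surjective N)) ⟨?_, ?_⟩)).symm
  · intro P Q h
    exact hN.inj (congrArg (fun R : Sylow p (G ⧸ N) => (R : Subgroup (G ⧸ N))) h)
  · exact Sylow.mapSurjective_surjective (QuotientGroup.mk'_surjective N) p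

end CQ

end Cfsg.Agent.H367.PU
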